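/-
A configuration and its table.
-/
import Cfsg.Agent.Lib.StdM12.Eng.Cand
import Cfsg.Agent.Lib.StdM12.Eng.K0w5.Facts0
import Cfsg.Agent.Lib.StdM12.Eng.K0w5.Facts1

set_option autoImplicit false
set_option maxRecDepth 100000

namespace CfsgLib.StdM12.Eng.K0w5

open Equiv Subgroup CfsgPC Eng
open CfsgLib.Co3M12 (UU kx elt img)
open CfsgLib.Co3M12.Eng (CTree FTree)

/-- The relations. -/
def rels : List Rel := Cand.relE0.getD 5 []

/-- The classes. -/
def defs : List (ℕ × ℕ) := [(0, 0x1a0c058281208038180a04018080200), (0, 0x1a0c058281208038180a04018080200), (1, 0x1a0c0500012020581c0c03008200805), (2, 0x1a0c0082c0c0403814100900008060a), (1, 0x1a0c04028080b0280c0e09030080200), (4, 0x1a0c0201c0605010201409000181601), (2, 0x1a0c0502c0208020180407018141200), (1, 0x1a0c028040c020501000090400c0e0b), (7, 0x1a0c0102c1003020000a07008280c09), (8, 0x1a0c0580c0a06038201202050100200), (1, 0x1a0c038040602050240004058180a08),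 (10, 0x1a0c0201c0605010201409000181601), (0, 0x1a0c058281208038180a04018080200), (1, 0x1a0c0001412060081010030102c1407), (7, 0x1a0c050200003008101607010141206)]

/-- The certificate. -/
def fs : FTree := (.node (.node (.node (.node (.node fs0 fs1) (.node fs2 fs3)) (.node (.node fs4 fs5) (.node fs6 fs7))) (.node (.node (.node fs8 fs9) (.node fs10 fs11)) (.node (.node fs12 fs13) (.node fs14 fs15)))) (.node (.node (.node (.node fs16 fs17) (.node fs18 fs19)) (.node (.node fs20 fs21) (.node fs22 fs23))) (.node (.node (.node fs24 fs25) (.node fs26 fs27)) (.node (.node fs28 fs29) (.node fs30 fs31)))))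

/-- Closure. -/
def clo0 : FTree := (.node (.node (.node (.node (.node (.node (.node (.node (.leaf 0x3) (.leaf 0x7)) (.node (.leaf 0x14e) (.leaf 0x681))) (.node (.node (.leaf 0x9b) (.leaf 0x843)) (.node (.leaf 0x1dc) (.leaf 0x9be)))) (.node (.node (.node (.leaf 0x60) (.leaf 0x7db)) (.node (.leaf 0x135) (.leaf 0x972))) (.node (.node (.leaf 0xf2) (.leaf 0x779)) (.node (.leaf 0x1a6) (.leaf 0x9ee))))) (.node (.node (.node (.node (.leaf 0x25) (.leaf 0x7a6)) (.node (.leaf 0x132) (.leaf 0x917))) (.node (.node (.leaf 0xf5) (.leaf 0x86b)) (.node (.leaf 0x1db) (.leaf 0xa22)))) (.node (.node (.node (.leaf 0x97) (.leaf 0x801)) (.node (.leaf 0x1c0) (.leaf 0x72d))) (.node (.node (.leaf 0xc6) (.leaf 0x67f)) (.node (.leaf 0x1eb) (.leaf 0xa56)))))) (.node (.node (.node (.node (.node (.leaf 0x18) (.leaf 0x776)) (.node (.leaf 0x137) (.leaf 0x90e))) (.node (.node (.leaf 0xa8) (.leaf 0x867)) (.node (.leaf 0x1aa) (.leaf 0x9d6))))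 (.node (.node (.node (.leaf 0x5a) (.leaf 0x80a)) (.node (.leaf 0x120) (.leaf 0x96a))) (.node (.node (.leaf 0xda) (.leaf 0x8ab)) (.node (.leaf 0x150) (.leaf 0xa24))))) (.node (.node (.node (.node (.leaf 0x4e) (.leaf 0x7c6)) (.node (.leaf 0x128) (.leaf 0x978))) (.node (.node (.leaf 0xf9) (.leaf 0x8a1)) (.node (.leaf 0x19a) (.leaf 0xa10)))) (.node (.node (.node (.leaf 0x72) (.leaf 0x826)) (.node (.leaf 0x12f) (.leaf 0x99d))) (.node (.node (.leaf 0xf8) (.leaf 0x8ce)) (.node (.leaf 0x0) (.leaf 0x0))))))) (.node (.node (.node (.node (.node (.node (.leaf 0x11) (.leaf 0x78b)) (.node (.leaf 0x106) (.leaf 0x90a))) (.node (.node (.leaf 0x6f) (.leaf 0x84b)) (.node (.leaf 0x177) (.leaf 0x645)))) (.node (.node (.node (.leaf 0x69) (.leaf 0x7e9)) (.node (.leaf 0x13b) (.leaf 0x958))) (.node (.node (.leaf 0x118) (.leaf 0x725)) (.node (.leaf 0x1d4) (.leaf 0xa43))))) (.node (.node (.node (.node (.leaf 0x2c) (.leaf 0x7c2)) (.node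 (.leaf 0x14c) (.leaf 0x942))) (.node (.node (.leaf 0xb7) (.leaf 0x89f)) (.node (.leaf 0x192) (.leaf 0x9f4)))) (.node (.node (.node (.leaf 0x83) (.leaf 0x832)) (.node (.leaf 0x1b0) (.leaf 0x9cc))) (.node (.node (.leaf 0xef) (.leaf 0x8bb)) (.node (.leaf 0x1e1) (.leaf 0xa62)))))) (.node (.node (.node (.node (.node (.leaf 0x27) (.leaf 0x79d)) (.node (.leaf 0xfc) (.leaf 0x908))) (.node (.node (.leaf 0xf1) (.leaf 0x6e5)) (.node (.leaf 0x151) (.leaf 0xa15)))) (.node (.node (.node (.leaf 0x7a) (.leaf 0x7ff)) (.node (.leaf 0x178) (.leaf 0x97f))) (.node (.node (.leaf 0xc0) (.leaf 0x8c7)) (.node (.leaf 0x1be) (.leaf 0xa30))))) (.node (.node (.node (.node (.leaf 0x6b) (.leaf 0x69b)) (.node (.leaf 0x131) (.leaf 0x67d))) (.node (.node (.leaf 0xa7) (.leaf 0x874)) (.node (.leaf 0x1a0) (.leaf 0x9e4)))) (.node (.node (.node (.leaf 0x7b) (.leaf 0x81b)) (.node (.leaf 0x165) (.leaf 0x99a))) (.node (.node (.leaf 0x176) (.leaf 0x8d9))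 (.node (.leaf 0x0) (.leaf 0x0)))))))) (.node (.node (.node (.node (.node (.node (.node (.leaf 0x8) (.leaf 0x6b1)) (.node (.leaf 0x17a) (.leaf 0x929))) (.node (.node (.leaf 0x55) (.leaf 0x714)) (.node (.leaf 0x196) (.leaf 0x9a9)))) (.node (.node (.node (.leaf 0x7e) (.leaf 0x765)) (.node (.leaf 0x198) (.leaf 0x75a))) (.node (.node (.leaf 0xa4) (.leaf 0x893)) (.node (.leaf 0x1e3) (.leaf 0xa00))))) (.node (.node (.node (.node (.leaf 0x28) (.leaf 0x7b4)) (.node (.leaf 0x13a) (.leaf 0x940))) (.node (.node (.leaf 0xb4) (.leaf 0x61c)) (.node (.leaf 0x190) (.leaf 0x6b7)))) (.node (.node (.node (.leaf 0x67) (.leaf 0x834)) (.node (.leaf 0x14b) (.leaf 0x9c4))) (.node (.node (.leaf 0xec) (.leaf 0x8d1)) (.node (.leaf 0x1d8) (.leaf 0xa64)))))) (.node (.node (.node (.node (.node (.leaf 0x16) (.leaf 0x6ba)) (.node (.leaf 0x13c) (.leaf 0x8f5))) (.node (.node (.leaf 0xca) (.leaf 0x869)) (.node (.leaf 0x1af) (.leaf 0x9d0)))) (.node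 (.node (.node (.leaf 0x5d) (.leaf 0x804)) (.node (.leaf 0x154) (.leaf 0x974))) (.node (.node (.leaf 0x9f) (.leaf 0x8c2)) (.node (.leaf 0x183) (.leaf 0xa35))))) (.node (.node (.node (.node (.leaf 0x40) (.leaf 0x7e2)) (.node (.leaf 0x15a) (.leaf 0x98a))) (.node (.node (.leaf 0x8a) (.leaf 0x683)) (.node (.leaf 0x1c7) (.leaf 0x6e3)))) (.node (.node (.node (.leaf 0x77) (.leaf 0x820)) (.node (.leaf 0x161) (.leaf 0x9a8))) (.node (.node (.leaf 0x10a) (.leaf 0x696)) (.node (.leaf 0x0) (.leaf 0x0))))))) (.node (.node (.node (.node (.node (.node (.leaf 0x19) (.leaf 0x794)) (.node (.leaf 0x12b) (.leaf 0x911))) (.node (.node (.leaf 0x87) (.leaf 0x854)) (.node (.leaf 0x1bd) (.leaf 0x9c0)))) (.node (.node (.node (.leaf 0x45) (.leaf 0x802)) (.node (.leaf 0x13e) (.leaf 0x94b))) (.node (.node (.leaf 0xd5) (.leaf 0x8b1)) (.node (.leaf 0x1d6) (.leaf 0xa46))))) (.node (.node (.node (.node (.leaf 0x3b) (.leaf 0x7c4)) (.node (.leaf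 0x179) (.leaf 0x939))) (.node (.node (.leaf 0xdb) (.leaf 0x679)) (.node (.leaf 0x1c2) (.leaf 0x768)))) (.node (.node (.node (.leaf 0x44) (.leaf 0x6a3)) (.node (.leaf 0x126) (.leaf 0x75e))) (.node (.node (.leaf 0xf3) (.leaf 0x8c4)) (.node (.leaf 0x1fd) (.leaf 0xa6a)))))) (.node (.node (.node (.node (.node (.leaf 0x2a) (.leaf 0x7ae)) (.node (.leaf 0x15c) (.leaf 0x903))) (.node (.node (.leaf 0xc2) (.leaf 0x63d)) (.node (.leaf 0x186) (.leaf 0x6ef)))) (.node (.node (.node (.leaf 0x70) (.leaf 0x7fb)) (.node (.leaf 0x191) (.leaf 0x98c))) (.node (.node (.leaf 0xe0) (.leaf 0x8cb)) (.node (.leaf 0x1e6) (.leaf 0xa37))))) (.node (.node (.node (.node (.leaf 0x48) (.leaf 0x6ad)) (.node (.leaf 0x189) (.leaf 0x6a5))) (.node (.node (.leaf 0xee) (.leaf 0x720)) (.node (.leaf 0x1dd) (.leaf 0x690)))) (.node (.node (.node (.leaf 0xb2) (.leaf 0x822)) (.node (.leaf 0x169) (.leaf 0x730))) (.node (.node (.leaf 0x149) (.leaf 0x92e)) (.node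 (.leaf 0x0) (.leaf 0x0)))))))))

/-- Closure. -/
def clo1 : FTree := (.node (.node (.node (.node (.node (.node (.node (.node (.leaf 0x5) (.leaf 0x77f)) (.node (.leaf 0x17b) (.leaf 0x92b))) (.node (.node (.leaf 0xba) (.leaf 0x845)) (.node (.leaf 0x1a1) (.leaf 0x9b0)))) (.node (.node (.node (.leaf 0x62) (.leaf 0x7d9)) (.node (.leaf 0x166) (.leaf 0x97a))) (.node (.node (.leaf 0xcf) (.leaf 0x6bb)) (.node (.leaf 0x184) (.leaf 0xa04))))) (.node (.node (.node (.node (.leaf 0x30) (.leaf 0x6c6)) (.node (.leaf 0x175) (.leaf 0x8ed))) (.node (.node (.leaf 0xf7) (.leaf 0x863)) (.node (.leaf 0x18e) (.leaf 0x6f5)))) (.node (.node (.node (.leaf 0x50) (.leaf 0x6c2)) (.node (.leaf 0x17d) (.leaf 0x9c7))) (.node (.node (.leaf 0x10e) (.leaf 0x8db)) (.node (.leaf 0x1f8) (.leaf 0xa5a)))))) (.node (.node (.node (.node (.node (.leaf 0x1a) (.leaf 0x777)) (.node (.leaf 0x110) (.leaf 0x8f9))) (.node (.node (.leaf 0xaa) (.leaf 0x764)) (.node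 (.leaf 0x1ad) (.leaf 0x9d8)))) (.node (.node (.node (.leaf 0x74) (.leaf 0x814)) (.node (.leaf 0x1a2) (.leaf 0x6b5))) (.node (.node (.leaf 0x124) (.leaf 0x76e)) (.node (.leaf 0x1ea) (.leaf 0xa2e))))) (.node (.node (.node (.node (.leaf 0x64) (.leaf 0x7cc)) (.node (.leaf 0x156) (.leaf 0x71e))) (.node (.node (.leaf 0xa0) (.leaf 0x673)) (.node (.leaf 0x1c5) (.leaf 0xa1c)))) (.node (.node (.node (.leaf 0x5c) (.leaf 0x819)) (.node (.leaf 0x15f) (.leaf 0x9b2))) (.node (.node (.leaf 0x142) (.leaf 0x6c0)) (.node (.leaf 0x0) (.leaf 0x0))))))) (.node (.node (.node (.node (.node (.node (.leaf 0x13) (.leaf 0x792)) (.node (.leaf 0xe5) (.leaf 0x8ea))) (.node (.node (.leaf 0x71) (.leaf 0x848)) (.node (.leaf 0x163) (.leaf 0x995)))) (.node (.node (.node (.leaf 0x84) (.leaf 0x7eb)) (.node (.leaf 0x19f) (.leaf 0x96f))) (.node (.node (.leaf 0x11a) (.leaf 0x88f)) (.node (.leaf 0x1ac) (.leaf 0xa3f))))) (.node (.node (.node (.node (.leaf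 0x39) (.leaf 0x7c7)) (.node (.leaf 0x17f) (.leaf 0x93c))) (.node (.node (.leaf 0xd9) (.leaf 0x8a4)) (.node (.leaf 0x1c3) (.leaf 0x9f9)))) (.node (.node (.node (.leaf 0x9e) (.leaf 0x836)) (.node (.leaf 0x1d2) (.leaf 0x9ce))) (.node (.node (.leaf 0xd7) (.leaf 0x8d4)) (.node (.leaf 0x1f3) (.leaf 0xa69)))))) (.node (.node (.node (.node (.node (.leaf 0x21) (.leaf 0x7ac)) (.node (.leaf 0x140) (.leaf 0x771))) (.node (.node (.leaf 0xaf) (.leaf 0x85e)) (.node (.leaf 0x185) (.leaf 0xa1f)))) (.node (.node (.node (.leaf 0x61) (.leaf 0x699)) (.node (.leaf 0x1a3) (.leaf 0x6f7))) (.node (.node (.leaf 0xc3) (.leaf 0x6cc)) (.node (.leaf 0x1b2) (.leaf 0x70e))))) (.node (.node (.node (.node (.leaf 0x37) (.leaf 0x7d4)) (.node (.leaf 0x157) (.leaf 0x97d))) (.node (.node (.leaf 0xa9) (.leaf 0x6eb)) (.node (.leaf 0x1cb) (.leaf 0x659)))) (.node (.node (.node (.leaf 0xa3) (.leaf 0x6d2)) (.node (.leaf 0x1c4) (.leaf 0x778))) (.node (.node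 (.leaf 0x11e) (.leaf 0x925)) (.node (.leaf 0x0) (.leaf 0x0)))))))) (.node (.node (.node (.node (.node (.node (.node (.leaf 0x9) (.leaf 0x784)) (.node (.leaf 0xde) (.leaf 0x8f0))) (.node (.node (.leaf 0x6e) (.leaf 0x850)) (.node (.leaf 0x1b8) (.leaf 0x9a5)))) (.node (.node (.node (.leaf 0x51) (.leaf 0x7e7)) (.node (.leaf 0x139) (.leaf 0x970))) (.node (.node (.leaf 0xd3) (.leaf 0x64d)) (.node (.leaf 0x1d3) (.leaf 0xa49))))) (.node (.node (.node (.node (.leaf 0x43) (.leaf 0x7b8)) (.node (.leaf 0x14a) (.leaf 0x946))) (.node (.node (.leaf 0xd6) (.leaf 0x8a8)) (.node (.leaf 0x1b5) (.leaf 0x9fb)))) (.node (.node (.node (.leaf 0x68) (.leaf 0x830)) (.node (.leaf 0x1ae) (.leaf 0x70a))) (.node (.node (.leaf 0x112) (.leaf 0x732)) (.node (.leaf 0x1fb) (.leaf 0xa6c)))))) (.node (.node (.node (.node (.node (.leaf 0x1f) (.leaf 0x675)) (.node (.leaf 0x113) (.leaf 0x748))) (.node (.node (.leaf 0xcc) (.leaf 0x649)) (.node (.leaf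 0x1d1) (.leaf 0x9d3)))) (.node (.node (.node (.leaf 0x5f) (.leaf 0x694)) (.node (.leaf 0x1b9) (.leaf 0x986))) (.node (.node (.leaf 0xbe) (.leaf 0x638)) (.node (.leaf 0x1df) (.leaf 0xa2c))))) (.node (.node (.node (.node (.leaf 0x53) (.leaf 0x69e)) (.node (.leaf 0x130) (.leaf 0x713))) (.node (.node (.leaf 0xbf) (.leaf 0x773)) (.node (.leaf 0x1d9) (.leaf 0x655)))) (.node (.node (.node (.leaf 0x92) (.leaf 0x66e)) (.node (.leaf 0x134) (.leaf 0x993))) (.node (.node (.leaf 0x143) (.leaf 0x641)) (.node (.leaf 0x0) (.leaf 0x0))))))) (.node (.node (.node (.node (.node (.node (.leaf 0x1b) (.leaf 0x79b)) (.node (.leaf 0xe9) (.leaf 0x8e5))) (.node (.node (.leaf 0x8d) (.leaf 0x859)) (.node (.leaf 0x194) (.leaf 0x9b4)))) (.node (.node (.node (.leaf 0x58) (.leaf 0x6ed)) (.node (.leaf 0x171) (.leaf 0x963))) (.node (.node (.leaf 0xb6) (.leaf 0x8aa)) (.node (.leaf 0x1ef) (.leaf 0xa3d))))) (.node (.node (.node (.node (.leaf 0x4c)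 (.leaf 0x7c9)) (.node (.leaf 0x101) (.leaf 0x976))) (.node (.node (.leaf 0xff) (.leaf 0x8a6)) (.node (.leaf 0x199) (.leaf 0x770)))) (.node (.node (.node (.leaf 0x57) (.leaf 0x81d)) (.node (.leaf 0x155) (.leaf 0x775))) (.node (.node (.leaf 0x107) (.leaf 0x6de)) (.node (.leaf 0x1f7) (.leaf 0xa77)))))) (.node (.node (.node (.node (.node (.leaf 0x1c) (.leaf 0x762)) (.node (.leaf 0x141) (.leaf 0x8e7))) (.node (.node (.leaf 0xe3) (.leaf 0x86e)) (.node (.leaf 0x1b4) (.leaf 0xa17)))) (.node (.node (.node (.leaf 0x7d) (.leaf 0x7f4)) (.node (.leaf 0x1ce) (.leaf 0x677))) (.node (.node (.leaf 0xc5) (.leaf 0x8bf)) (.node (.leaf 0x1fa) (.leaf 0x6e7))))) (.node (.node (.node (.node (.leaf 0x4a) (.leaf 0x7d7)) (.node (.leaf 0x162) (.leaf 0x988))) (.node (.node (.leaf 0xe6) (.leaf 0x88c)) (.node (.leaf 0x1cf) (.leaf 0xa06)))) (.node (.node (.node (.leaf 0x99) (.leaf 0x6d5)) (.node (.leaf 0x16b) (.leaf 0x999))) (.node (.node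 (.leaf 0x122) (.leaf 0x927)) (.node (.leaf 0x0) (.leaf 0x0)))))))))

/-- Closure. -/
def clo2 : FTree := (.node (.node (.node (.node (.node (.node (.node (.node (.leaf 0x4) (.leaf 0x77d)) (.node (.leaf 0x14f) (.leaf 0x921))) (.node (.node (.leaf 0x9c) (.leaf 0x705)) (.node (.leaf 0x16f) (.leaf 0x990)))) (.node (.node (.node (.leaf 0x4d) (.leaf 0x761)) (.node (.leaf 0x136) (.leaf 0x692))) (.node (.node (.leaf 0xae) (.leaf 0x716)) (.node (.leaf 0x1d0) (.leaf 0x774))))) (.node (.node (.node (.node (.leaf 0x2f) (.leaf 0x7aa)) (.node (.leaf 0x174) (.leaf 0x8fd))) (.node (.node (.leaf 0xd2) (.leaf 0x84e)) (.node (.leaf 0x15d) (.leaf 0x9eb)))) (.node (.node (.node (.leaf 0x65) (.leaf 0x626)) (.node (.leaf 0x17c) (.leaf 0x9ca))) (.node (.node (.leaf 0xea) (.leaf 0x6f9)) (.node (.leaf 0x1f0) (.leaf 0xa58)))))) (.node (.node (.node (.node (.node (.leaf 0x20) (.leaf 0x798)) (.node (.leaf 0xeb) (.leaf 0x8e2))) (.node (.node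 (.leaf 0x8f) (.leaf 0x68c)) (.node (.leaf 0x17e) (.leaf 0x9d2)))) (.node (.node (.node (.leaf 0x5b) (.leaf 0x7fd)) (.node (.leaf 0x172) (.leaf 0x96d))) (.node (.node (.leaf 0xfe) (.leaf 0x8af)) (.node (.leaf 0x182) (.leaf 0xa52))))) (.node (.node (.node (.node (.leaf 0x4f) (.leaf 0x6d8)) (.node (.leaf 0x129) (.leaf 0x6c8))) (.node (.node (.leaf 0x85) (.leaf 0x884)) (.node (.leaf 0x19b) (.leaf 0x9fd)))) (.node (.node (.node (.leaf 0x75) (.leaf 0x76f)) (.node (.leaf 0x15e) (.leaf 0x666))) (.node (.node (.leaf 0x117) (.leaf 0x8bd)) (.node (.leaf 0x0) (.leaf 0x0))))))) (.node (.node (.node (.node (.node (.node (.leaf 0xe) (.leaf 0x78d)) (.node (.leaf 0xe4) (.leaf 0x8f3))) (.node (.node (.leaf 0x88) (.leaf 0x861)) (.node (.leaf 0x1a7) (.leaf 0x9b7)))) (.node (.node (.node (.leaf 0x6a) (.leaf 0x6a1)) (.node (.leaf 0x16d) (.leaf 0x707))) (.node (.node (.leaf 0xf6) (.leaf 0x872)) (.node (.leaf 0x1ec) (.leaf 0xa4d)))))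 (.node (.node (.node (.node (.leaf 0x2d) (.leaf 0x7bf)) (.node (.leaf 0x14d) (.leaf 0x931))) (.node (.node (.leaf 0xb8) (.leaf 0x879)) (.node (.leaf 0x1bf) (.leaf 0x67b)))) (.node (.node (.node (.leaf 0x9d) (.leaf 0x83a)) (.node (.leaf 0x1a8) (.leaf 0x9c6))) (.node (.node (.leaf 0x114) (.leaf 0x6ca)) (.node (.leaf 0x1f4) (.leaf 0xa6e)))))) (.node (.node (.node (.node (.node (.leaf 0x31) (.leaf 0x7a4)) (.node (.leaf 0x115) (.leaf 0x77b))) (.node (.node (.leaf 0x94) (.leaf 0x846)) (.node (.leaf 0x152) (.leaf 0xa02)))) (.node (.node (.node (.leaf 0x93) (.leaf 0x817)) (.node (.leaf 0x173) (.leaf 0x94f))) (.node (.node (.leaf 0xe1) (.leaf 0x8d7)) (.node (.leaf 0x1e2) (.leaf 0xa39))))) (.node (.node (.node (.node (.leaf 0x2b) (.leaf 0x7ce)) (.node (.leaf 0x12a) (.leaf 0x729))) (.node (.node (.leaf 0xc7) (.leaf 0x891)) (.node (.leaf 0x1ca) (.leaf 0xa12)))) (.node (.node (.node (.leaf 0x95) (.leaf 0x824)) (.node (.leaf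 0x197) (.leaf 0x9ac))) (.node (.node (.leaf 0xfa) (.leaf 0x91c)) (.node (.leaf 0x0) (.leaf 0x0)))))))) (.node (.node (.node (.node (.node (.node (.node (.leaf 0xd) (.leaf 0x789)) (.node (.leaf 0xbc) (.leaf 0x8e8))) (.node (.node (.leaf 0x6d) (.leaf 0x68e)) (.node (.leaf 0x18b) (.leaf 0x62f)))) (.node (.node (.node (.leaf 0x3f) (.leaf 0x6fb)) (.node (.leaf 0x10f) (.leaf 0x949))) (.node (.node (.leaf 0xe2) (.leaf 0x71c)) (.node (.leaf 0x1c1) (.leaf 0xa0d))))) (.node (.node (.node (.node (.leaf 0x33) (.leaf 0x7b7)) (.node (.leaf 0x148) (.leaf 0x93e))) (.node (.node (.leaf 0xb5) (.leaf 0x89d)) (.node (.leaf 0x1bc) (.leaf 0x6af)))) (.node (.node (.node (.leaf 0x80) (.leaf 0x83c)) (.node (.leaf 0x180) (.leaf 0x767))) (.node (.node (.leaf 0xed) (.leaf 0x8c9)) (.node (.leaf 0x1f2) (.leaf 0xa5f)))))) (.node (.node (.node (.node (.node (.leaf 0x1d) (.leaf 0x79f)) (.node (.leaf 0x16e) (.leaf 0x914))) (.node (.node (.leaf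 0xac) (.leaf 0x84d)) (.node (.leaf 0x1b1) (.leaf 0x9dd)))) (.node (.node (.node (.leaf 0x5e) (.leaf 0x7f9)) (.node (.leaf 0x18c) (.leaf 0x965))) (.node (.node (.leaf 0xbd) (.leaf 0x8d5)) (.node (.leaf 0x1da) (.leaf 0x6db))))) (.node (.node (.node (.node (.leaf 0x41) (.leaf 0x7e0)) (.node (.leaf 0x108) (.leaf 0x95e))) (.node (.node (.leaf 0xa5) (.leaf 0x886)) (.node (.leaf 0x1c8) (.leaf 0x702)))) (.node (.node (.node (.leaf 0x91) (.leaf 0x829)) (.node (.leaf 0x193) (.leaf 0x72c))) (.node (.node (.leaf 0x119) (.leaf 0x751)) (.node (.leaf 0x0) (.leaf 0x0))))))) (.node (.node (.node (.node (.node (.node (.leaf 0x15) (.leaf 0x79a)) (.node (.leaf 0x10b) (.leaf 0x905))) (.node (.node (.leaf 0xa1) (.leaf 0x62b)) (.node (.leaf 0x1cd) (.leaf 0x9a3)))) (.node (.node (.node (.leaf 0x46) (.leaf 0x7f7)) (.node (.leaf 0x170) (.leaf 0x719))) (.node (.node (.leaf 0xfb) (.leaf 0x6d0)) (.node (.leaf 0x1ee) (.leaf 0xa50))))) (.node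 (.node (.node (.node (.leaf 0x3c) (.leaf 0x7c0)) (.node (.leaf 0xdd) (.leaf 0x953))) (.node (.node (.leaf 0xdc) (.leaf 0x89b)) (.node (.leaf 0x1e4) (.leaf 0xa0b)))) (.node (.node (.node (.leaf 0x56) (.leaf 0x766)) (.node (.leaf 0x127) (.leaf 0x68a))) (.node (.node (.leaf 0x116) (.leaf 0x6c4)) (.node (.leaf 0x1fe) (.leaf 0xa74)))))) (.node (.node (.node (.node (.node (.leaf 0x35) (.leaf 0x7b2)) (.node (.leaf 0x11b) (.leaf 0x8f7))) (.node (.node (.leaf 0xc1) (.leaf 0x857)) (.node (.leaf 0x187) (.leaf 0x9f7)))) (.node (.node (.node (.leaf 0x89) (.leaf 0x812)) (.node (.leaf 0x1a4) (.leaf 0x662))) (.node (.node (.leaf 0x105) (.leaf 0x8dd)) (.node (.leaf 0x1e7) (.leaf 0xa29))))) (.node (.node (.node (.node (.leaf 0x3a) (.leaf 0x7cf)) (.node (.leaf 0x133) (.leaf 0x968))) (.node (.node (.leaf 0xcb) (.leaf 0x870)) (.node (.leaf 0x1f1) (.leaf 0x76a)))) (.node (.node (.node (.leaf 0x7f) (.leaf 0x755)) (.node (.leaf 0x19c)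 (.leaf 0x9b9))) (.node (.node (.leaf 0xfd) (.leaf 0x621)) (.node (.leaf 0x0) (.leaf 0x0)))))))))

/-- Closure. -/
def clo3 : FTree := (.node (.node (.node (.node (.node (.node (.node (.node (.leaf 0xa) (.leaf 0x781)) (.node (.leaf 0x146) (.leaf 0x91f))) (.node (.node (.leaf 0xbb) (.leaf 0x841)) (.node (.leaf 0x18f) (.leaf 0x9a2)))) (.node (.node (.node (.leaf 0x63) (.leaf 0x6a7)) (.node (.leaf 0x167) (.leaf 0x74d))) (.node (.node (.leaf 0xd0) (.leaf 0x876)) (.node (.leaf 0x1b3) (.leaf 0x688))))) (.node (.node (.node (.node (.leaf 0x3e) (.leaf 0x6b3)) (.node (.leaf 0x11d) (.leaf 0x934))) (.node (.node (.leaf 0x98) (.leaf 0x73e)) (.node (.leaf 0x1ba) (.leaf 0x9f1)))) (.node (.node (.node (.leaf 0x66) (.leaf 0x70c)) (.node (.leaf 0x1ab) (.leaf 0x9ae))) (.node (.node (.leaf 0xc8) (.leaf 0x8b9)) (.node (.leaf 0x1f5) (.leaf 0xa5c)))))) (.node (.node (.node (.node (.node (.leaf 0x22) (.leaf 0x769)) (.node (.leaf 0x111)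 (.leaf 0x8ec))) (.node (.node (.leaf 0xab) (.leaf 0x855)) (.node (.leaf 0x1d7) (.leaf 0x9df)))) (.node (.node (.node (.leaf 0x49) (.leaf 0x7ef)) (.node (.leaf 0x15b) (.leaf 0x951))) (.node (.node (.leaf 0x11c) (.leaf 0x6ff)) (.node (.leaf 0x1ed) (.leaf 0xa4b))))) (.node (.node (.node (.node (.leaf 0x32) (.leaf 0x7dd)) (.node (.leaf 0x12c) (.leaf 0x651))) (.node (.node (.leaf 0xa2) (.leaf 0x888)) (.node (.leaf 0x19d) (.leaf 0x9e7)))) (.node (.node (.node (.leaf 0x76) (.leaf 0x76d)) (.node (.leaf 0x188) (.leaf 0x685))) (.node (.node (.leaf 0xe7) (.leaf 0x8cc)) (.node (.leaf 0x0) (.leaf 0x0))))))) (.node (.node (.node (.node (.node (.node (.leaf 0x14) (.leaf 0x790)) (.node (.leaf 0x104) (.leaf 0x6ce))) (.node (.node (.leaf 0x8b) (.leaf 0x860)) (.node (.leaf 0x1cc) (.leaf 0x727)))) (.node (.node (.node (.leaf 0x36) (.leaf 0x7ed)) (.node (.leaf 0x1c9) (.leaf 0x617))) (.node (.node (.leaf 0xb3) (.leaf 0x8ad)) (.node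 (.leaf 0x1d5) (.leaf 0x735))))) (.node (.node (.node (.node (.leaf 0x2e) (.leaf 0x7bd)) (.node (.leaf 0x147) (.leaf 0x944))) (.node (.node (.leaf 0xb9) (.leaf 0x6ab)) (.node (.leaf 0x195) (.leaf 0x6e9)))) (.node (.node (.node (.leaf 0x6c) (.leaf 0x66a)) (.node (.leaf 0x100) (.leaf 0x997))) (.node (.node (.leaf 0xce) (.leaf 0x8b7)) (.node (.leaf 0x1fc) (.leaf 0xa71)))))) (.node (.node (.node (.node (.node (.leaf 0x29) (.leaf 0x7b0)) (.node (.leaf 0x12d) (.leaf 0x6a9))) (.node (.node (.leaf 0xb0) (.leaf 0x852)) (.node (.leaf 0x153) (.leaf 0x9e9)))) (.node (.node (.node (.leaf 0x7c) (.leaf 0x807)) (.node (.leaf 0x160) (.leaf 0x763))) (.node (.node (.leaf 0xc4) (.leaf 0x772)) (.node (.leaf 0x1e5) (.leaf 0xa3b))))) (.node (.node (.node (.node (.leaf 0x38) (.leaf 0x77a)) (.node (.leaf 0x158) (.leaf 0x743))) (.node (.node (.leaf 0xc9) (.leaf 0x88a)) (.node (.leaf 0x1e8) (.leaf 0x633)))) (.node (.node (.node (.leaf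 0xb1) (.leaf 0x82b)) (.node (.leaf 0x138) (.leaf 0x98e))) (.node (.node (.leaf 0x11f) (.leaf 0x923)) (.node (.leaf 0x0) (.leaf 0x0)))))))) (.node (.node (.node (.node (.node (.node (.node (.leaf 0xf) (.leaf 0x786)) (.node (.leaf 0x103) (.leaf 0x90c))) (.node (.node (.leaf 0x86) (.leaf 0x865)) (.node (.leaf 0x1de) (.leaf 0x701)))) (.node (.node (.node (.leaf 0x52) (.leaf 0x7e5)) (.node (.leaf 0x16a) (.leaf 0x982))) (.node (.node (.leaf 0xf4) (.leaf 0x87c)) (.node (.leaf 0x18d) (.leaf 0xa27))))) (.node (.node (.node (.node (.leaf 0x23) (.leaf 0x7bb)) (.node (.leaf 0x121) (.leaf 0x936))) (.node (.node (.leaf 0x9a) (.leaf 0x896)) (.node (.leaf 0x1c6) (.leaf 0xa19)))) (.node (.node (.node (.leaf 0x82) (.leaf 0x838)) (.node (.leaf 0x181) (.leaf 0x9c2))) (.node (.node (.leaf 0x13d) (.leaf 0x8e0)) (.node (.leaf 0x1e0) (.leaf 0xa67)))))) (.node (.node (.node (.node (.node (.leaf 0x26) (.leaf 0x7a2)) (.node (.leaf 0x13f)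 (.leaf 0x8fb))) (.node (.node (.leaf 0xcd) (.leaf 0x85b)) (.node (.leaf 0x125) (.leaf 0x9e5)))) (.node (.node (.node (.leaf 0x79) (.leaf 0x80c)) (.node (.leaf 0x145) (.leaf 0x960))) (.node (.node (.leaf 0xdf) (.leaf 0x6e0)) (.node (.leaf 0x1bb) (.leaf 0xa32))))) (.node (.node (.node (.node (.leaf 0x54) (.leaf 0x65e)) (.node (.leaf 0x109) (.leaf 0x955))) (.node (.node (.leaf 0xa6) (.leaf 0x87e)) (.node (.leaf 0x1b7) (.leaf 0x76b)))) (.node (.node (.node (.leaf 0xad) (.leaf 0x82e)) (.node (.leaf 0x164) (.leaf 0x6f2))) (.node (.node (.leaf 0x144) (.leaf 0x8ca)) (.node (.leaf 0x0) (.leaf 0x0))))))) (.node (.node (.node (.node (.node (.node (.leaf 0x12) (.leaf 0x795)) (.node (.leaf 0x10d) (.leaf 0x711))) (.node (.node (.leaf 0x8e) (.leaf 0x6bd)) (.node (.leaf 0x1a9) (.leaf 0x9da)))) (.node (.node (.node (.leaf 0x47) (.leaf 0x7f2)) (.node (.leaf 0x159) (.leaf 0x984))) (.node (.node (.leaf 0xd8) (.leaf 0x8b4)) (.node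 (.leaf 0x1f9) (.leaf 0xa54))))) (.node (.node (.node (.node (.leaf 0x3d) (.leaf 0x723)) (.node (.leaf 0x102) (.leaf 0x95c))) (.node (.node (.leaf 0xd4) (.leaf 0x898)) (.node (.leaf 0x168) (.leaf 0x9e2)))) (.node (.node (.node (.leaf 0x59) (.leaf 0x739)) (.node (.leaf 0x18a) (.leaf 0x9bc))) (.node (.node (.leaf 0x12e) (.leaf 0x76c)) (.node (.leaf 0x0) (.leaf 0x0)))))) (.node (.node (.node (.node (.node (.leaf 0x24) (.leaf 0x7a8)) (.node (.leaf 0x16c) (.leaf 0x900))) (.node (.node (.leaf 0xd1) (.leaf 0x6fd)) (.node (.leaf 0x1b6) (.leaf 0xa08)))) (.node (.node (.node (.leaf 0x96) (.leaf 0x80f)) (.node (.leaf 0x1a5) (.leaf 0x95a))) (.node (.node (.leaf 0xe8) (.leaf 0x8d3)) (.node (.leaf 0x1f6) (.leaf 0xa41))))) (.node (.node (.node (.node (.leaf 0x4b) (.leaf 0x7d2)) (.node (.leaf 0x10c) (.leaf 0x94d))) (.node (.node (.leaf 0xf0) (.leaf 0x881)) (.node (.leaf 0x1e9) (.leaf 0xa20)))) (.node (.node (.node (.leaf 0x81)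 (.leaf 0x83f)) (.node (.leaf 0x19e) (.leaf 0x9a0))) (.node (.node (.leaf 0x123) (.leaf 0x919)) (.node (.leaf 0x0) (.leaf 0x0)))))))))

/-- The closure table. -/
def clo : FTree := (.node (.node clo0 clo1) (.node clo2 clo3))

/-- The classes with the elements fixing them. -/
def els : List Stab := [
  (0, [], []),
  (1, [11, 16, 30, 66, 140, 144, 1379], [⟨0, [(0, 0x1a0c058281208038180a04018080200, 0x1a0c058281208038180a04018080200, 0, 0), (6, 0x180d058280601038000a02048101006, 0x180d058280601038000a02048101006, 0, 0), (4, 0x1a0c058281201028080e00018181004, 0x1a0c058281201028080e00018181004, 0, 2), (8, 0x1a0c058141200038041402018100c08, 0x1a0c058141200038041402018100c08, 0, 4), (10, 0x180d038000802058040609028200c0a, 0x180d038000802058040609028200c0a, 0, 6), (2, 0x180d058280608028100e06048000202, 0x180d058280608028100e06048000202, 1, 2), (1, 0x180d058140606038201404048080001, 0x180d058140606038201404048080001,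 1, 4), (9, 0x1a0c0382808010280c1606010001009, 0x1a0c028280001058100e090300c1002, 2, 3), (3, 0x1a0c050140008058240e04030080203, 0x1a0c0382c0c080280c1404000080209, 3, 5), (5, 0x180d038200404058180609050000205, 0x180d0380c080a058180008028240202, 4, 4), (7, 0x180d058200404050240c000280c0207, 0x180d0581c0c0a000140608010240204, 4, 5), (11, 0x180d03820060905010000602808020b, 0x180d0001c100a058100606048080205, 10, 3)], [0, 6, 5, 8, 2, 9, 1, 10, 3, 7, 4, 11, 0, 0], [(6, 6), (9, 6)]⟩, ⟨1, [(1, 0x1a0c058281208038180a04018080200, 0x1a0c058281208038180a04018080200, 0, 0), (10, 0x180d038240a08058100c03010041400, 0x180d0380414080581412060200c0400, 0, 0), (3, 0x1a0c0380810060280414040482c0600, 0x1a0c010140609058200e04008280c00, 0, 1), (9, 0x1a0c058140c080380c0802008281200, 0x1a0c058080208038241405030100600, 1, 0), (2, 0x180d0282014060381002090580c0400, 0x180d01824080a038201606010040a00, 1, 1), (5, 0x180d038180808058080601050240a00,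 0x180d0380c0408058280209028180800, 3, 0), (8, 0x1a0c03828020602824080b018081000, 0x1a0c020280c01058200e05018081200, 3, 1), (11, 0x180d050180401028100608038241600, 0x180d0082c0404018280e06028241000, 4, 1), (6, 0x1a0c05810060803804040a048140c00, 0x1a0c05810060803804040a048140c00, 5, 0), (7, 0x1a0c04810020a0300c0408058140e00, 0x1a0c0182016040081c040a030141200, 7, 0), (4, 0x180d0380c0408058280209028180800, 0x180d038180808058080601050240a00, 8, 0)], [0, 0, 4, 2, 10, 5, 8, 9, 6, 3, 1, 7, 0, 0], [(6, 1), (2, 1), (9, 0), (7, 1)]⟩, ⟨2, [(2, 0x1a0c058281208038180a04018080200, 0x1a0c058281208038180a04018080200, 0, 0), (11, 0x1a0c0101412060202014070182c0200, 0x1a0c0101412060202014070182c0200, 0, 0), (7, 0x1a0c0502c12030101808050401c0200, 0x1a0c0502c12030101808050401c0200, 0, 1), (10, 0x1a0c038141602030241004018280200, 0x1a0c048080c050581c1404018200200, 0, 2), (4, 0x180d028240606040281607010100200, 0x180d0281814070202016020480c0200,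 0, 3), (5, 0x180d0202c060a038181208010140200, 0x180d050200a0403818040b0480c0200, 1, 3), (6, 0x1a0c0281c1603050240808010180200, 0x1a0c0481c0c040500816050400c0200, 2, 2), (8, 0x180d048140602020280e0b030200200, 0x180d0201816020280c1407048200200, 2, 3), (9, 0x180d0402c0a040500c0c07010240200, 0x180d0501c040b0201412080300c0200, 3, 3), (3, 0x180d0481010070282c040a0300c0200, 0x180d0301016090400c0e0a010140200, 7, 1)], [0, 0, 0, 9, 4, 5, 6, 2, 7, 8, 3, 1, 0, 0], [(9, 0), (7, 2), (6, 1), (9, 3), (1, 1)]⟩, ⟨3, [(3, 0x1a0c058281208038180a04018080200, 0x1a0c058281208038180a04018080200, 0, 0), (9, 0x1a0c05820060a020140c07048080200, 0x1a0c05820060a020140c07048080200, 0, 0), (10, 0x1a0c0280c0e04048181608050080200, 0x1a0c0280c0e04048181608050080200, 0, 2), (5, 0x1a0c058100c070500c1208028080200, 0x1a0c0581c0a0404024060a030080200, 0, 4), (7, 0x1a0c0281014030402c0c09038080200, 0x1a0c03024080701814160a040080200, 1, 2), (6, 0x1a0c018201407048100a0b030080200,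 0x1a0c020240e0a0400c0a06058080200, 1, 3), (8, 0x1a0c03024080701814160a040080200, 0x1a0c0281014030402c0c09038080200, 2, 0), (4, 0x1a0c0481414080300c1607020080200, 0x1a0c0282416080201c1403030080200, 2, 4), (11, 0x1a0c028200c09018280e04058080200, 0x1a0c01818100a028241604038080200, 3, 2)], [0, 0, 0, 0, 7, 3, 5, 4, 6, 1, 2, 8, 0, 0], [(7, 0), (6, 1), (3, 3)]⟩, ⟨4, [(4, 0x1a0c058281208038180a04018080200, 0x1a0c058281208038180a04018080200, 0, 0), (10, 0x1a0c040140e09058100c0a018080200, 0x1a0c03810100b048141406018080200, 0, 0), (8, 0x1a0c0302c1405020240e08018080200, 0x1a0c050240c040282c1007018080200, 0, 2), (5, 0x1a0c048181607040280805018080200, 0x1a0c048181607040280805018080200, 1, 0), (11, 0x1a0c0281c080a03020120b018080200, 0x1a0c020200a060501c1609018080200, 1, 2), (9, 0x1a0c020200a060501c1609018080200, 0x1a0c0281c080a03020120b018080200, 2, 0), (6, 0x1a0c03810100b048141406018080200, 0x1a0c040140e09058100c0a018080200,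 3, 0), (7, 0x1a0c050240c040282c1007018080200, 0x1a0c0302c1405020240e08018080200, 3, 2)], [0, 0, 0, 0, 0, 3, 6, 7, 2, 5, 1, 4, 0, 0], [(6, 1)]⟩, ⟨12, [(12, 0x1a0c058281208038180a04018080200, 0x1a0c058281208038180a04018080200, 0, 0), (13, 0x180d058281208038180a04018080200, 0x180d058281208038180a04018080200, 0, 0)], [0, 0, 0, 0, 0, 0, 0, 0, 0, 0, 0, 0, 0, 1], []⟩])]

end CfsgLib.StdM12.Eng.K0w5
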