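/-
Facts follow from earlier ones.
-/
import Cfsg.Agent.Lib.StdM12.Eng.K0w5.Dat

set_option autoImplicit false
set_option maxRecDepth 100000

namespace CfsgLib.StdM12.Eng.K0w5

open Equiv Subgroup CfsgPC Eng
open CfsgLib.Co3M12 (UU kx elt img)
open CfsgLib.Co3M12.Eng (CTree FTree)

theorem ck0 : rangeB (datOf 0 rels defs) fs.get 0 2500 = true := by decide +kernel

end CfsgLib.StdM12.Eng.K0w5
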