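/-
Facts follow from earlier ones.
-/
import Cfsg.Agent.Lib.StdM12.Eng.K0w5.Dat

set_option autoImplicit false
set_option maxRecDepth 100000

namespace CfsgLib.StdM12.Eng.K0w5

open Equiv Subgroup CfsgPC Eng
open CfsgLib.Co3M12 (UU kx elt img)
open CfsgLib.Co3M12.Eng (CTree FTree)

theorem cl0 : ((List.range 2).all fun d => closedB (datOf 0 rels defs).base fs.get 3 15 (fun j p => clo.get (j * 512 + p))
    Co3M12.Data.reps els 2680 (0 + d)) = true := by decide +kernel

end CfsgLib.StdM12.Eng.K0w5
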